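import Groth.Agent.H5.DQ.SchemeSide
import Groth.Agent.H45.Derived.TruncHomology
import Groth.Agent.H12.QCohAbelian
import Groth.Agent.H33.PCPush.AbsTerm
import Groth.Prelude.Def_DCoh3
import Groth.Prelude.Def_CxOX

/-!
# Vanishing of `Hom(A, L)` for `L ∈ D_QCoh` with a gap in cohomology: basics

`HV A a b` : every morphism `A ⟶ L` vanishes when `L ∈ D_QCoh(O_Y)` has `H^i(L) = 0` for
`a ≤ i ≤ b`.  Stability properties and the case of a bounded complex of finite free modules on an
affine scheme.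
-/

set_option autoImplicit false
set_option linter.style.haveILetI false

universe u

open CategoryTheory Category Limits Pretriangulated DerivedCategory AlgebraicGeometry

attribute [local instance] HasDerivedCategory.standard

namespace Groth.Agent.H5.HomVan.Basic

variable {Y : Scheme.{u}}

/-- every map from `A` to an object of `D_QCoh` without cohomology in `[a, b]` vanishes -/
def HV (A : DCoh.D Y) (a b : ℤ) : Prop :=
  ∀ L : DCoh.D Y, DCoh.IsQCohD L → (∀ i : ℤ, a ≤ i → i ≤ b → IsZero (DCoh.HD L i)) →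
    ∀ φ : A ⟶ L, φ = 0

lemma HV.mono {A : DCoh.D Y} {a b a' b' : ℤ} (h : HV A a b) (ha : a' ≤ a) (hb : b ≤ b') :
    HV A a' b' :=
  fun L hL hz φ => h L hL (fun i h1 h2 => hz i (by omega) (by omega)) φ

lemma HV.of_iso {A A' : DCoh.D Y} {a b : ℤ} (e : A ≅ A') (h : HV A a b) : HV A' a b := by
  intro L hL hz φ
  have h1 := h L hL hz (e.hom ≫ φ)
  rw [← cancel_epi e.hom, h1, comp_zero]

lemma HV.of_isZero {A : DCoh.D Y} (hA : IsZero A) (a b : ℤ) : HV A a b :=
  fun _ _ _ _ => hA.eq_of_src _ _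

lemma HV.ext {a b : ℤ} (T : Triangle (DCoh.D Y)) (hT : T ∈ distTriang (DCoh.D Y))
    (h1 : HV T.obj₁ a b) (h3 : HV T.obj₃ a b) : HV T.obj₂ a b := by
  intro L hL hz φ
  have h := h1 L hL hz (T.mor₁ ≫ φ)
  obtain ⟨g, hg⟩ := Triangle.yoneda_exact₂ T hT φ h
  rw [hg, h3 L hL hz g, comp_zero]

/-- `τ_{<n} L ∈ D_QCoh` -/
lemma isQCohD_truncLT (L : DCoh.D Y) (hL : DCoh.IsQCohD L) (n : ℤ) :
    DCoh.IsQCohD ((TStructure.t.truncLT n).obj L) := by
  intro q
  by_cases hq : q < n
  · have := Groth.Agent.H45.isIso_homologyMap_truncLTι L n q hq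
    haveI : ((homologyFunctor Y.Modules q).obj L).IsQuasicoherent := hL q
    exact Groth.Agent.H12.QCohAbelian.isQuasicoherent_of_iso
      (M := (homologyFunctor Y.Modules q).obj L)
      (asIso ((homologyFunctor Y.Modules q).map ((TStructure.t.truncLTι n).app L))).symm
  · haveI : ((TStructure.t.truncLT n).obj L).IsLE (n - 1) :=
      (inferInstance : TStructure.t.IsLE ((TStructure.t.truncLT n).obj L) (n - 1))
    exact Groth.Agent.H5.DQ.SchemeSide.isQuasicoherent_of_isZero Y
      (isZero_of_isLE ((TStructure.t.truncLT n).obj L) (n - 1) q (by omega))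

/-- `τ_{≥n} L ∈ D_QCoh` -/
lemma isQCohD_truncGE (L : DCoh.D Y) (hL : DCoh.IsQCohD L) (n : ℤ) :
    DCoh.IsQCohD ((TStructure.t.truncGE n).obj L) := by
  intro q
  by_cases hq : n ≤ q
  · have := Groth.Agent.H45.isIso_homologyMap_truncGEπ L n q hq
    haveI : ((homologyFunctor Y.Modules q).obj L).IsQuasicoherent := hL q
    exact Groth.Agent.H12.QCohAbelian.isQuasicoherent_of_iso
      (M := (homologyFunctor Y.Modules q).obj L)
      (asIso ((homologyFunctor Y.Modules q).map ((TStructure.t.truncGEπ n).app L)))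
  · haveI : ((TStructure.t.truncGE n).obj L).IsGE n :=
      (inferInstance : TStructure.t.IsGE ((TStructure.t.truncGE n).obj L) n)
    exact Groth.Agent.H5.DQ.SchemeSide.isQuasicoherent_of_isZero Y
      (isZero_of_isGE ((TStructure.t.truncGE n).obj L) n q (by omega))

/-- if `H^n(L) = 0` then `τ_{≥n} L ∈ D^{≥ n+1}` -/
lemma isGE_truncGE_succ (L : DCoh.D Y) (n : ℤ) (hz : IsZero (DCoh.HD L n)) :
    ((TStructure.t.truncGE n).obj L).IsGE (n + 1) := by
  rw [DerivedCategory.isGE_iff]
  intro i hi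
  haveI : ((TStructure.t.truncGE n).obj L).IsGE n :=
    (inferInstance : TStructure.t.IsGE ((TStructure.t.truncGE n).obj L) n)
  by_cases h : i < n
  · exact isZero_of_isGE ((TStructure.t.truncGE n).obj L) n i h
  · obtain rfl : i = n := by omega
    have := Groth.Agent.H45.isIso_homologyMap_truncGEπ L i i le_rfl
    exact IsZero.of_iso hz
      (asIso ((homologyFunctor Y.Modules i).map ((TStructure.t.truncGEπ i).app L))).symm

/-- **The basic vanishing on an affine scheme**: `Hom(O[-i], L) = 0` if `H^i(L) = 0`. -/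
theorem hom_single_unit_eq_zero [IsAffine Y] (i : ℤ) (L : DCoh.D Y) (hL : DCoh.IsQCohD L)
    (hz : IsZero (DCoh.HD L i))
    (φ : (singleFunctor Y.Modules i).obj (Coh.structureModule Y) ⟶ L) : φ = 0 := by
  have hT := TStructure.t.triangleLTGE_distinguished i L
  haveI : ((singleFunctor Y.Modules i).obj (Coh.structureModule Y)).IsLE i := inferInstance
  haveI := isGE_truncGE_succ L i hz
  have h1 : φ ≫ (TStructure.t.truncGEπ i).app L = 0 :=
    TStructure.t.zero _ i (i + 1) (by omega)
  obtain ⟨g, hg⟩ := Triangle.coyoneda_exact₂ _ hT φ h1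
  have hg0 : g = 0 := by
    let M := (TStructure.t.truncLT i).obj L
    have hM : DCoh.IsQCohD M := isQCohD_truncLT L hL i
    have hLE : M.IsLE (i - 1) :=
      (inferInstance : TStructure.t.IsLE ((TStructure.t.truncLT i).obj L) (i - 1))
    have hsub := Groth.Agent.H5.DQ.SchemeSide.subsingleton_hom_of_isLE M hM (i - 1) i hLE
      (by omega)
    let e : ((singleFunctor Y.Modules i).obj (Coh.structureModule Y))⟦i⟧ ≅
        Groth.Agent.H5.DQ.SchemeSide.T₀ Y :=
      ((singleFunctors Y.Modules).shiftIso i 0 i (by omega)).app (Coh.structureModule Y)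
    have h2 : e.inv ≫ g⟦i⟧' = 0 := @Subsingleton.elim _ hsub _ _
    have h3 : g⟦i⟧' = 0 := by
      rw [← cancel_epi e.inv, h2, comp_zero]
    apply (shiftFunctor (DCoh.D Y) i).map_injective
    rw [h3, Functor.map_zero]
  rw [hg, hg0]
  exact zero_comp

/-- the same for a finite free module -/
theorem hom_single_free_eq_zero [IsAffine Y] (i : ℤ) (n : ℕ) (L : DCoh.D Y)
    (hL : DCoh.IsQCohD L) (hz : IsZero (DCoh.HD L i))
    (φ : (singleFunctor Y.Modules i).obj (FlatMod.freeMod Y n) ⟶ L) : φ = 0 := by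
  let S := singleFunctor Y.Modules i
  let f : Fin n → Y.Modules := fun _ => Coh.structureModule Y
  haveI : PreservesColimit (Discrete.functor f) S :=
    (PreservesFiniteCoproducts.preserves n).preservesColimit
  have hc := isColimitOfPreserves S (coproductIsCoproduct f)
  refine hc.hom_ext (fun j => ?_)
  rw [comp_zero]
  exact hom_single_unit_eq_zero i L hL hz _

/-- **Bounded complexes of finite free modules on an affine scheme.** -/
theorem HV_of_bounded_free [IsAffine Y] (E : CochainComplex Y.Modules ℤ) (a b : ℤ)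
    (hE : ∀ i : ℤ, i < a ∨ b < i → IsZero (E.X i))
    (hfree : ∀ i : ℤ, ∃ n : ℕ, Nonempty (E.X i ≅ FlatMod.freeMod Y n)) :
    HV (DerivedCategory.Q.obj E) a b := by
  refine Groth.Agent.H33.PCPush.induction_bounded' (fun A => HV A a b)
    (fun i M => a ≤ i ∧ i ≤ b ∧ ∃ n : ℕ, Nonempty (M ≅ FlatMod.freeMod Y n))
    ?_ (fun X hX => HV.of_isZero hX a b) (fun T hT h1 h3 => HV.ext T hT h1 h3) ?_ E a b hE
    (fun i hi hi' => ⟨hi, hi', hfree i⟩)
  · rintro i M N e ⟨h1, h2, n, ⟨e'⟩⟩
    exact ⟨h1, h2, n, ⟨e.symm ≪≫ e'⟩⟩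
  · rintro M i ⟨h1, h2, n, ⟨e⟩⟩
    refine HV.of_iso (((singleFunctor Y.Modules i).mapIso e.symm) ≪≫
      (singleFunctorIsoCompQ Y.Modules i).app M) ?_
    intro L hL hz φ
    exact hom_single_free_eq_zero i n L hL (hz i h1 h2) φ

end Groth.Agent.H5.HomVan.Basic
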