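import Groth.Agent.H5.HomVan.Induct
import Groth.Agent.H5.PullbackUnit
import Groth.Agent.H5.FinLocFreeOps

/-!
# `HV` for perfect objects on quasi-compact quasi-separated schemes
-/

set_option autoImplicit false
set_option linter.style.haveILetI false

universe u

open CategoryTheory Category Limits Pretriangulated DerivedCategory AlgebraicGeometry
  Scheme.Modules

attribute [local instance] HasDerivedCategory.standard

namespace Groth.Agent.H5.HomVan.Perfect

open Groth.Agent.H5.HomVan.Basic Groth.Agent.H5.HomVan.MV Groth.Agent.H5.HomVan.Induct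

variable {X : Scheme.{u}}

/-- the restriction of a free module along an open immersion is free -/
noncomputable def restrictFreeIso {T : Scheme.{u}} (g : T ⟶ X) [IsOpenImmersion g] (n : ℕ) :
    (restrictFunctor g).obj (FlatMod.freeMod X n) ≅ FlatMod.freeMod T n :=
  (restrictFunctorIsoPullback g).app _ ≪≫ Groth.Agent.H5.PullbackUnit.pullbackFreeIso g n

/-- a module which is free on the range of `j` is free after restriction along any open
immersion factoring through `j` -/
lemma nonempty_restrict_iso_free {T U' : Scheme.{u}} (j : U' ⟶ X) [IsOpenImmersion j]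
    (M : X.Modules) (n : ℕ) (e : (restrictFunctor j).obj M ≅ FlatMod.freeMod U' n)
    (g' : T ⟶ X) [IsOpenImmersion g'] (g'' : T ⟶ U') [IsOpenImmersion g''] (h : g'' ≫ j = g') :
    Nonempty ((restrictFunctor g').obj M ≅ FlatMod.freeMod T n) := by
  subst h
  exact ⟨(restrictFunctorComp g'' j).app M ≪≫ (restrictFunctor g'').mapIso e ≪≫
    restrictFreeIso g'' n⟩

/-- lifting an open immersion through an open subscheme -/
lemma exists_lift {T : Scheme.{u}} (g : T ⟶ X) [IsOpenImmersion g] (V : X.Opens)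
    (hg : g.opensRange ≤ V) :
    ∃ (g' : T ⟶ (V : Scheme.{u})) (_ : IsOpenImmersion g'), g' ≫ V.ι = g := by
  have hrange : Set.range g.base ⊆ Set.range V.ι.base := by
    rw [Scheme.Opens.range_ι]
    rintro _ ⟨y, rfl⟩
    exact hg ⟨y, rfl⟩
  have hfac : IsOpenImmersion.lift V.ι g hrange ≫ V.ι = g := IsOpenImmersion.lift_fac _ _ _
  have : IsOpenImmersion (IsOpenImmersion.lift V.ι g hrange ≫ V.ι) := by rw [hfac]; infer_instance
  exact ⟨IsOpenImmersion.lift V.ι g hrange, IsOpenImmersion.of_comp _ V.ι, hfac⟩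

/-- **A perfect object is, locally, a bounded complex of finite free modules.** -/
theorem exists_good (K : DCoh.D X) (hK : DCoh.IsPerfect K) (x : X) :
    ∃ W : X.Opens, x ∈ W ∧ Good K W := by
  classical
  obtain ⟨V, hxV, hV⟩ := hK x
  obtain ⟨E, ⟨⟨a, b, hab⟩, hfl⟩, ⟨e⟩⟩ := hV (Q.objPreimage K) ⟨Q.objObjPreimageIso K⟩
  let e' : (DCoh.restrictD V.ι).obj K ≅ Q.obj E :=
    (DCoh.restrictD V.ι).mapIso (Q.objObjPreimageIso K).symm ≪≫
      (restrictFunctor V.ι).mapDerivedCategoryFactors.app _ ≪≫ e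
  let x' : (V : Scheme.{u}) := ⟨x, hxV⟩
  choose U n hxU hfree using fun i => hfl i x'
  let W' : (V : Scheme.{u}).Opens := (Finset.Icc a b).inf U
  have hxW' : x' ∈ W' := by
    have : (W' : Set (V : Scheme.{u})) = (Finset.Icc a b).inf (fun i => (U i : Set (V : Scheme.{u}))) :=
      TopologicalSpace.Opens.coe_finset_inf U (Finset.Icc a b)
    change x' ∈ (W' : Set (V : Scheme.{u}))
    rw [this]
    simp only [Finset.inf_eq_iInf, Set.iInf_eq_iInter, Set.mem_iInter]
    intro i _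
    exact hxU i
  refine ⟨V.ι ''ᵁ W', ⟨x', hxW', rfl⟩, ?_⟩
  intro T g _ hg
  obtain ⟨g', _, hg'⟩ := exists_lift g V (hg.trans (V.ι_image_le W'))
  have hg'W : g'.opensRange ≤ W' := by
    refine (Scheme.Hom.image_le_image_iff V.ι _ _).1 ?_
    exact (Scheme.Hom.opensRange_comp g' V.ι).symm.trans_le (by subst hg'; exact hg)
  refine ⟨((restrictFunctor g').mapHomologicalComplex (ComplexShape.up ℤ)).obj E, a, b,
    fun i hi => (restrictFunctor g').map_isZero (hab i hi), fun i => ?_, ?_⟩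
  · by_cases hi : a ≤ i ∧ i ≤ b
    · have hWU : W' ≤ U i := Finset.inf_le (Finset.mem_Icc.2 hi)
      obtain ⟨g'', _, hg''⟩ := exists_lift g' (U i) (hg'W.trans hWU)
      exact ⟨n i, nonempty_restrict_iso_free (U i).ι (E.X i) (n i) (hfree i).some g' g'' hg''⟩
    · refine ⟨0, ⟨((restrictFunctor g').map_isZero (hab i (by omega))).iso
        Groth.Agent.H5.FinLocFreeOps.isZero_freeMod_zero⟩⟩
  · obtain ⟨r⟩ := Groth.Agent.H33.Glue.nonempty_restrictD_iso_of_fac g' V.ι g hg'
    exact ⟨r.app K ≪≫ (DCoh.restrictD g').mapIso e' ≪≫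
      (restrictFunctor g').mapDerivedCategoryFactors.app E⟩

/-- the affine case -/
theorem PW_affine (K : DCoh.D X) (hgood : ∀ x : X, ∃ W : X.Opens, x ∈ W ∧ Good K W)
    (U : X.Opens) (hU : IsAffineOpen U) : PW K U := by
  classical
  have key : ∀ x : U, ∃ f : Γ(X, U), (x : X) ∈ X.basicOpen f ∧ Good K (X.basicOpen f) := by
    intro x
    obtain ⟨W, hxW, hW⟩ := hgood x
    obtain ⟨f, hfW, hxf⟩ := hU.exists_basicOpen_le (V := W) ⟨x, hxW⟩ x.2
    exact ⟨f, hxf, hW.mono hfW⟩
  choose f hxf hf using key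
  obtain ⟨s, hs⟩ := hU.isCompact.elim_finite_subcover (fun x : U => (X.basicOpen (f x) : Set X))
    (fun x => (X.basicOpen (f x)).isOpen)
    (fun y hy => Set.mem_iUnion.2 ⟨⟨y, hy⟩, hxf ⟨y, hy⟩⟩)
  have hU' : U = s.sup (fun x => X.basicOpen (f x)) := by
    refine le_antisymm ?_ (Finset.sup_le fun x _ => X.basicOpen_le _)
    intro y hy
    obtain ⟨x, hx⟩ := Set.mem_iUnion.1 (hs hy)
    obtain ⟨hxs, hyx⟩ := Set.mem_iUnion.1 hx
    exact (Finset.le_sup (f := fun x => X.basicOpen (f x)) hxs) hyx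
  rw [hU']
  refine Groth.Agent.Lead.Coh.finset_sup_induction (PW K) (PW_bot K) (PW_sup K)
    {W | (∃ r : Γ(X, U), W = X.basicOpen r) ∧ Good K W} ?_ ?_ s _
    (fun x _ => ⟨⟨f x, rfl⟩, hf x⟩)
  · rintro _ ⟨⟨r, rfl⟩, h1⟩ _ ⟨⟨r', rfl⟩, _⟩
    exact ⟨⟨r * r', (X.basicOpen_mul r r').symm⟩, h1.mono inf_le_left⟩
  · rintro _ ⟨⟨r, rfl⟩, h1⟩
    exact PW_of_good (hU.basicOpen r) h1

/-- **Main theorem.** On a quasi-compact quasi-separated scheme, a perfect object `K` admits
`a ≤ b` such that `Hom(K, L) = 0` for every `L ∈ D_QCoh` with `H^i(L) = 0` for `a ≤ i ≤ b`. -/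
theorem exists_HV [CompactSpace X] [QuasiSeparatedSpace X] (K : DCoh.D X)
    (hK : DCoh.IsPerfect K) : ∃ a b : ℤ, a ≤ b ∧ HV K a b := by
  apply exists_HV_of_PW_top
  refine Groth.Agent.Lead.Coh.qcqs_induction (PW K) (PW_bot K) (PW_sup K) ⊤ ?_
    (fun U hU _ => PW_affine K (exists_good K hK) U hU) ⊤ le_rfl ?_
  · rw [TopologicalSpace.Opens.coe_top]
    exact isQuasiSeparated_univ
  · rw [TopologicalSpace.Opens.coe_top]
    exact isCompact_univ

end Groth.Agent.H5.HomVan.Perfect
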