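import Groth.Agent.H5.HomVan.MV
import Groth.Agent.H33.Glue.MapDComp
import Groth.Agent.H30.RpushQC.LocCohVanish
import Groth.Agent.Lead.Coh.QcqsInd

/-!
# The Mayer–Vietoris induction for `HV`

`PW K W`: for every open immersion `g : T ⟶ X` with range `W`, the restriction `K|_T` satisfies
`HV · a b` for some `a b`.  It holds for `⊥`, passes to unions, and holds for affine opens on which
`K` is (everywhere locally) a bounded complex of finite free modules.
-/

set_option autoImplicit false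
set_option linter.style.haveILetI false

universe u

open CategoryTheory Category Limits Pretriangulated DerivedCategory AlgebraicGeometry
  Scheme.Modules

attribute [local instance] HasDerivedCategory.standard

namespace Groth.Agent.H5.HomVan.Induct

open Groth.Agent.H5.HomVan.Basic Groth.Agent.H5.HomVan.MV

variable {X : Scheme.{u}}

/-- the property to be proved by Mayer–Vietoris induction -/
def PW (K : DCoh.D X) (W : X.Opens) : Prop :=
  ∀ (T : Scheme.{u}) (g : T ⟶ X) [IsOpenImmersion g], g.opensRange = W →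
    ∃ a b : ℤ, HV ((DCoh.restrictD g).obj K) a b

/-- every object of the derived category of modules on an empty scheme vanishes -/
lemma isZero_of_isEmpty {T : Scheme.{u}} [IsEmpty T] (A : DCoh.D T) : IsZero A := by
  refine IsZero.of_iso ?_ (Q.objObjPreimageIso A).symm
  exact Groth.Agent.H33.PCPush.isZero_Q_of_isZero_X _
    (fun i => Groth.Agent.H30.RpushQC.isZero_of_isEmpty _)

lemma PW_bot (K : DCoh.D X) : PW K ⊥ := by
  intro T g _ hg
  haveI : IsEmpty T := ⟨fun x => by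
    have h : g.base x ∈ g.opensRange := ⟨x, rfl⟩
    rw [hg] at h
    exact h⟩
  exact ⟨0, 0, HV.of_isZero (isZero_of_isEmpty _) 0 0⟩

lemma opensRange_ι_comp {T : Scheme.{u}} (g : T ⟶ X) [IsOpenImmersion g] (W : X.Opens)
    (hW : W ≤ g.opensRange) : ((g ⁻¹ᵁ W).ι ≫ g).opensRange = W := by
  rw [Scheme.Hom.opensRange_comp, Scheme.Opens.opensRange_ι,
    Scheme.Hom.image_preimage_eq_opensRange_inf]
  exact inf_eq_right.2 hW

lemma PW_sup (K : DCoh.D X) (W₁ W₂ : X.Opens) (h₁ : PW K W₁) (h₂ : PW K W₂)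
    (h₃ : PW K (W₁ ⊓ W₂)) : PW K (W₁ ⊔ W₂) := by
  intro T g _ hg
  let U : T.Opens := g ⁻¹ᵁ W₁
  let V : T.Opens := g ⁻¹ᵁ W₂
  have hUV : U ⊔ V = ⊤ := by
    rw [eq_top_iff]
    intro x _
    have h : g.base x ∈ g.opensRange := ⟨x, rfl⟩
    rw [hg] at h
    exact h
  obtain ⟨a₁, b₁, e₁⟩ := h₁ _ (U.ι ≫ g)
    (opensRange_ι_comp g W₁ (hg ▸ le_sup_left))
  obtain ⟨a₂, b₂, e₂⟩ := h₂ _ (V.ι ≫ g)
    (opensRange_ι_comp g W₂ (hg ▸ le_sup_right))
  obtain ⟨a₃, b₃, e₃⟩ := h₃ _ ((U ⊓ V).ι ≫ g)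
    (opensRange_ι_comp g (W₁ ⊓ W₂) (hg ▸ inf_le_left.trans le_sup_left))
  let a := min a₁ (min a₂ a₃)
  let b := max b₁ (max b₂ b₃)
  have e₁' : HV ((DCoh.restrictD U.ι).obj ((DCoh.restrictD g).obj K)) a b :=
    (HV.of_iso ((Groth.Agent.H33.Glue.restrictDComp U.ι g).app K) e₁).mono
      (min_le_left _ _) (le_max_left _ _)
  have e₂' : HV ((DCoh.restrictD V.ι).obj ((DCoh.restrictD g).obj K)) a b :=
    (HV.of_iso ((Groth.Agent.H33.Glue.restrictDComp V.ι g).app K) e₂).mono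
      ((min_le_right _ _).trans (min_le_left _ _)) ((le_max_left _ _).trans (le_max_right _ _))
  have e₃' : HV ((DCoh.restrictD (U ⊓ V).ι).obj ((DCoh.restrictD g).obj K)) a b :=
    (HV.of_iso ((Groth.Agent.H33.Glue.restrictDComp (U ⊓ V).ι g).app K) e₃).mono
      ((min_le_right _ _).trans (min_le_right _ _)) ((le_max_right _ _).trans (le_max_right _ _))
  exact ⟨a - 1, b, HV_of_cover U V hUV _ a b e₁' e₂' e₃'⟩

/-- `K` restricted along any open immersion into `W` is a bounded complex of finite free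
modules -/
def Good (K : DCoh.D X) (W : X.Opens) : Prop :=
  ∀ (T : Scheme.{u}) (g : T ⟶ X) [IsOpenImmersion g], g.opensRange ≤ W →
    ∃ (E : CochainComplex T.Modules ℤ) (a b : ℤ), (∀ i : ℤ, i < a ∨ b < i → IsZero (E.X i)) ∧
      (∀ i : ℤ, ∃ n : ℕ, Nonempty (E.X i ≅ FlatMod.freeMod T n)) ∧
      Nonempty ((DCoh.restrictD g).obj K ≅ DerivedCategory.Q.obj E)

lemma Good.mono {K : DCoh.D X} {W W' : X.Opens} (h : Good K W) (hW : W' ≤ W) : Good K W' :=
  fun T g _ hg => h T g (hg.trans hW)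

lemma PW_of_good {K : DCoh.D X} {W : X.Opens} (hW : IsAffineOpen W) (h : Good K W) : PW K W := by
  intro T g _ hg
  haveI : IsAffine T := by
    haveI : IsAffine ↑(g.opensRange) := by rw [hg]; exact hW
    exact IsAffine.of_isIso g.isoOpensRange.hom
  obtain ⟨E, a, b, hE, hfree, ⟨e⟩⟩ := h T g hg.le
  exact ⟨a, b, HV.of_iso e.symm (HV_of_bounded_free E a b hE hfree)⟩

/-- `K|_X ≅ K` -/
noncomputable def restrictDIdIso (K : DCoh.D X) : (DCoh.restrictD (𝟙 X)).obj K ≅ K :=
  (DCoh.restrictD (𝟙 X)).mapIso (Q.objObjPreimageIso K).symm ≪≫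
    (restrictFunctor (𝟙 X)).mapDerivedCategoryFactors.app (Q.objPreimage K) ≪≫
    Q.mapIso ((NatIso.mapHomologicalComplex restrictFunctorId (ComplexShape.up ℤ)).app _ ≪≫
      (Functor.mapHomologicalComplexIdIso _ _).app _) ≪≫ Q.objObjPreimageIso K

lemma exists_HV_of_PW_top {K : DCoh.D X} (h : PW K ⊤) : ∃ a b : ℤ, a ≤ b ∧ HV K a b := by
  obtain ⟨a, b, hab⟩ := h X (𝟙 X) (Scheme.Hom.opensRange_of_isIso _)
  exact ⟨min a b, max a b, (min_le_left _ _).trans (le_max_left _ _),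
    (HV.of_iso (restrictDIdIso K) hab).mono (min_le_left _ _) (le_max_right _ _)⟩

end Groth.Agent.H5.HomVan.Induct
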