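import Groth.Agent.H5.HomVan.Perfect
import Groth.Agent.H44.LocFree
import Groth.Agent.H44.AffineHom
import Groth.Agent.H33.Perf.Local
import Groth.Agent.H5.PerfectFree
import Groth.Agent.H5.PerfectPull

/-!
# Uniform `HV` for finite locally free modules on quasi-compact quasi-separated schemes
-/

set_option autoImplicit false
set_option linter.style.haveILetI false

universe u

open CategoryTheory Category Limits Pretriangulated DerivedCategory AlgebraicGeometry
  Scheme.Modules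

attribute [local instance] HasDerivedCategory.standard

namespace Groth.Agent.H5.HomVan.LocFree

open Groth.Agent.H5.HomVan.Basic Groth.Agent.H5.HomVan.MV Groth.Agent.H5.HomVan.Induct
  Groth.Agent.H5.HomVan.Perfect

variable {Y : Scheme.{u}}

/-- on an affine scheme, a finite locally free module is a retract of a finite free module -/
theorem exists_retract_free [IsAffine Y] (F : Y.Modules) (hF : FlatMod.IsFinLocFree F) :
    ∃ (n : ℕ) (s : F ⟶ FlatMod.freeMod Y n) (r : FlatMod.freeMod Y n ⟶ F), s ≫ r = 𝟙 F := by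
  haveI : F.IsQuasicoherent := Groth.Agent.H5.PerfectPull.isQuasicoherent_of_isFinLocFree F hF
  obtain ⟨hfin, hproj⟩ := Groth.Agent.H44.finite_projective_of_isFinLocFree F hF
    (isAffineOpen_top Y)
  obtain ⟨n, f, hf⟩ := Module.Finite.exists_fin' Γ(Y, ⊤) Γ(F, ⊤)
  obtain ⟨s₀, hs₀⟩ := Module.projective_lifting_property f LinearMap.id hf
  haveI : (FlatMod.freeMod Y n).IsQuasicoherent :=
    Groth.Agent.H5.PerfectPull.isQuasicoherent_of_isFinLocFree _
      (Groth.Agent.H5.PerfectFree.isFinLocFree_freeMod n)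
  obtain ⟨b⟩ := Groth.Agent.H44.nonempty_basis_of_iso_freeMod (FlatMod.freeMod Y n)
    (isAffineOpen_top Y) (le_refl (⊤ : Y.Opens)) (restrictFreeIso (⊤ : Y.Opens).ι n)
  obtain ⟨s, hs⟩ := Groth.Agent.H44.exists_hom_of_linearMap F (FlatMod.freeMod Y n)
    (b.equivFun.symm.toLinearMap ∘ₗ s₀)
  obtain ⟨r, hr⟩ := Groth.Agent.H44.exists_hom_of_linearMap (FlatMod.freeMod Y n) F
    (f ∘ₗ b.equivFun.toLinearMap)
  refine ⟨n, s, r, Groth.Agent.H44.hom_ext_of_app_top F F _ _ (fun m => ?_)⟩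
  have h1 : (s ≫ r).app ⊤ m = r.app ⊤ (s.app ⊤ m) := rfl
  rw [h1, hs, hr]
  have h2 : f (s₀ m) = m := LinearMap.congr_fun hs₀ m
  show f (b.equivFun (b.equivFun.symm (s₀ m))) = m
  rw [LinearEquiv.apply_symm_apply]
  exact h2

/-- **The basic vanishing on an affine scheme, for finite locally free modules.** -/
theorem hom_single_finLocFree_eq_zero [IsAffine Y] (F : Y.Modules) (hF : FlatMod.IsFinLocFree F)
    (i : ℤ) (L : DCoh.D Y) (hL : DCoh.IsQCohD L) (hz : IsZero (DCoh.HD L i))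
    (φ : (singleFunctor Y.Modules i).obj F ⟶ L) : φ = 0 := by
  obtain ⟨n, s, r, hsr⟩ := exists_retract_free F hF
  have h1 : (singleFunctor Y.Modules i).map r ≫ φ = 0 :=
    hom_single_free_eq_zero i n L hL hz _
  have h2 : φ = (singleFunctor Y.Modules i).map s ≫ (singleFunctor Y.Modules i).map r ≫ φ := by
    rw [← Category.assoc, ← Functor.map_comp, hsr, CategoryTheory.Functor.map_id,
      Category.id_comp]
  rw [h2, h1, comp_zero]

variable {X : Scheme.{u}}

/-- the property to be proved by Mayer–Vietoris induction: a uniform bound for all finite locally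
free modules -/
def PF (W : X.Opens) : Prop :=
  ∃ d : ℤ, ∀ (T : Scheme.{u}) (g : T ⟶ X) [IsOpenImmersion g], g.opensRange = W →
    ∀ F : T.Modules, FlatMod.IsFinLocFree F → HV (DCoh.inD T F) (-d) 0

lemma PF_bot : PF (⊥ : X.Opens) := by
  refine ⟨0, fun T g _ hg F _ => ?_⟩
  haveI : IsEmpty T := ⟨fun x => by
    have h : g.base x ∈ g.opensRange := ⟨x, rfl⟩
    rw [hg] at h
    exact h⟩
  exact HV.of_isZero (isZero_of_isEmpty _) _ _

lemma PF_affine (W : X.Opens) (hW : IsAffineOpen W) : PF W := by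
  refine ⟨0, fun T g _ hg F hF => ?_⟩
  haveI : IsAffine T := by
    haveI : IsAffine ↑(g.opensRange) := by rw [hg]; exact hW
    exact IsAffine.of_isIso g.isoOpensRange.hom
  intro L hL hz φ
  exact hom_single_finLocFree_eq_zero F hF 0 L hL (hz 0 (by omega) le_rfl) φ

lemma PF_sup (W₁ W₂ : X.Opens) (h₁ : PF W₁) (h₂ : PF W₂) (h₃ : PF (W₁ ⊓ W₂)) :
    PF (W₁ ⊔ W₂) := by
  obtain ⟨d₁, h₁⟩ := h₁
  obtain ⟨d₂, h₂⟩ := h₂
  obtain ⟨d₃, h₃⟩ := h₃
  let d := max d₁ (max d₂ d₃)
  refine ⟨d + 1, fun T g _ hg F hF => ?_⟩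
  let U : T.Opens := g ⁻¹ᵁ W₁
  let V : T.Opens := g ⁻¹ᵁ W₂
  have hUV : U ⊔ V = ⊤ := by
    rw [eq_top_iff]
    intro x _
    have h : g.base x ∈ g.opensRange := ⟨x, rfl⟩
    rw [hg] at h
    exact h
  have key : ∀ (O : T.Opens) (d' : ℤ), d' ≤ d →
      HV (DCoh.inD (↑O) ((restrictFunctor O.ι).obj F)) (-d') 0 →
      HV ((DCoh.restrictD O.ι).obj (DCoh.inD T F)) (-d) 0 := fun O d' hd' h =>
    (HV.of_iso (((restrictFunctor O.ι).mapDerivedCategorySingleFunctor 0).app F).symm h).mono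
      (by omega) le_rfl
  have e₁ := key U d₁ (le_max_left _ _) (h₁ _ (U.ι ≫ g)
    (opensRange_ι_comp g W₁ (hg ▸ le_sup_left)) _
    (Groth.Agent.H33.Perf.isFinLocFree_restrict U.ι F hF))
  have e₂ := key V d₂ ((le_max_left _ _).trans (le_max_right _ _)) (h₂ _ (V.ι ≫ g)
    (opensRange_ι_comp g W₂ (hg ▸ le_sup_right)) _
    (Groth.Agent.H33.Perf.isFinLocFree_restrict V.ι F hF))
  have e₃ := key (U ⊓ V) d₃ ((le_max_right _ _).trans (le_max_right _ _)) (h₃ _ ((U ⊓ V).ι ≫ g)
    (opensRange_ι_comp g (W₁ ⊓ W₂) (hg ▸ inf_le_left.trans le_sup_left)) _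
    (Groth.Agent.H33.Perf.isFinLocFree_restrict (U ⊓ V).ι F hF))
  have := HV_of_cover U V hUV (DCoh.inD T F) (-d) 0 e₁ e₂ e₃
  exact this.mono (by omega) le_rfl

/-- **Uniform vanishing for finite locally free modules.** -/
theorem exists_uniform [CompactSpace X] [QuasiSeparatedSpace X] :
    ∃ d : ℤ, 0 ≤ d ∧ ∀ F : X.Modules, FlatMod.IsFinLocFree F → HV (DCoh.inD X F) (-d) 0 := by
  have h : PF (⊤ : X.Opens) := by
    refine Groth.Agent.Lead.Coh.qcqs_induction PF PF_bot PF_sup ⊤ ?_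
      (fun U hU _ => PF_affine U hU) ⊤ le_rfl ?_
    · rw [TopologicalSpace.Opens.coe_top]
      exact isQuasiSeparated_univ
    · rw [TopologicalSpace.Opens.coe_top]
      exact isCompact_univ
  obtain ⟨d, hd⟩ := h
  refine ⟨max d 0, le_max_right _ _, fun F hF => ?_⟩
  exact (hd X (𝟙 X) (Scheme.Hom.opensRange_of_isIso _) F hF).mono
    (by have := le_max_left d 0; omega) le_rfl

end Groth.Agent.H5.HomVan.LocFree
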