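import Groth.Agent.H5.HomVan.Basic
import Groth.Agent.H33.MV.ExtZeroMain
import Groth.Agent.H33.DerAdjExact
import Groth.Agent.H33.SchemeDer.Restrict
import Groth.Agent.H33.LocCoh.OpenEquiv
import Groth.Agent.H16.ExactDer

/-!
# The Mayer–Vietoris step for `HV`

If `Y = U ∪ V` and `A|_U`, `A|_V`, `A|_{U ∩ V}` satisfy `HV · a b` then `A` satisfies
`HV A (a - 1) b`.
-/

set_option autoImplicit false
set_option linter.style.haveILetI false

universe u

open CategoryTheory Category Limits Pretriangulated DerivedCategory AlgebraicGeometry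
  Scheme.Modules

attribute [local instance] HasDerivedCategory.standard

namespace Groth.Agent.H5.HomVan.MV

open Groth.Agent.H5.HomVan.Basic

section abs

variable {C D : Type*} [Category C] [Category D] [Preadditive C] [Preadditive D]
  {F : C ⥤ D} {G : D ⥤ C}

lemma eq_zero_of_adj (adj : F ⊣ G) [F.PreservesZeroMorphisms] {M : C} {L : D}
    (h : ∀ ψ : M ⟶ G.obj L, ψ = 0) (f : F.obj M ⟶ L) : f = 0 := by
  rw [← (adj.homEquiv M L).symm_apply_apply f, h (adj.homEquiv M L f), adj.homEquiv_counit,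
    F.map_zero, zero_comp]

end abs

variable {Y : Scheme.{u}}

/-- restriction to an open preserves vanishing of a cohomology sheaf -/
lemma isZero_HD_restrictD {T : Scheme.{u}} (j : T ⟶ Y) [IsOpenImmersion j] (L : DCoh.D Y) (i : ℤ)
    (h : IsZero (DCoh.HD L i)) : IsZero (DCoh.HD ((DCoh.restrictD j).obj L) i) :=
  IsZero.of_iso ((restrictFunctor j).map_isZero h)
    ((Groth.Agent.H16.ExactDer.homologyNatIso (restrictFunctor j) i).app L)

/-- restriction to an open preserves `D_QCoh` -/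
lemma isQCohD_restrictD {T : Scheme.{u}} (j : T ⟶ Y) [IsOpenImmersion j] (L : DCoh.D Y)
    (hL : DCoh.IsQCohD L) : DCoh.IsQCohD ((DCoh.restrictD j).obj L) := by
  intro i
  have : (DCoh.HD L i).IsQuasicoherent := hL i
  exact (SheafOfModules.isQuasicoherent T.ringCatSheaf).prop_of_iso
    ((Groth.Agent.H16.ExactDer.homologyNatIso (restrictFunctor j) i).app L).symm
    (inferInstance : ((restrictFunctor j).obj (DCoh.HD L i)).IsQuasicoherent)

/-- cohomology of a shift -/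
lemma isZero_HD_shift (L : DCoh.D Y) (n i k : ℤ) (h : n + i = k) (hz : IsZero (DCoh.HD L k)) :
    IsZero (DCoh.HD (L⟦n⟧) i) :=
  IsZero.of_iso hz (((homologyFunctor Y.Modules 0).shiftIso n i k h).app L)

/-- `D_QCoh` is stable under shifts -/
lemma isQCohD_shift (L : DCoh.D Y) (hL : DCoh.IsQCohD L) (n : ℤ) : DCoh.IsQCohD (L⟦n⟧) := by
  intro i
  haveI : ((homologyFunctor Y.Modules (n + i)).obj L).IsQuasicoherent := hL (n + i)
  exact Groth.Agent.H12.QCohAbelian.isQuasicoherent_of_iso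
    (M := (homologyFunctor Y.Modules (n + i)).obj L)
    (((homologyFunctor Y.Modules 0).shiftIso n i (n + i) rfl).app L).symm

/-- **Mayer–Vietoris step.** -/
theorem HV_of_cover (U V : Y.Opens) (hUV : U ⊔ V = ⊤) (A : DCoh.D Y) (a b : ℤ)
    (hU : HV ((DCoh.restrictD U.ι).obj A) a b) (hV : HV ((DCoh.restrictD V.ι).obj A) a b)
    (hW : HV ((DCoh.restrictD (U ⊓ V).ι).obj A) a b) : HV A (a - 1) b := by
  intro L hL hz φ
  obtain ⟨α, β, γ, hT⟩ := Groth.Agent.H33.MV.exists_mv_triangle_extZero U V hUV A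
  have adjU : CxOX.extZeroD U.ι ⊣ DCoh.restrictD U.ι :=
    Groth.Agent.H33.DerAdjExact.derivedAdj (CxOX.extZeroAdj U.ι)
  have adjV : CxOX.extZeroD V.ι ⊣ DCoh.restrictD V.ι :=
    Groth.Agent.H33.DerAdjExact.derivedAdj (CxOX.extZeroAdj V.ι)
  have adjW : CxOX.extZeroD (U ⊓ V).ι ⊣ DCoh.restrictD (U ⊓ V).ι :=
    Groth.Agent.H33.DerAdjExact.derivedAdj (CxOX.extZeroAdj (U ⊓ V).ι)
  have h1 : β ≫ φ = 0 := by
    apply biprod.hom_ext'
    · rw [comp_zero]
      exact eq_zero_of_adj adjU (fun ψ => hU _ (isQCohD_restrictD U.ι L hL)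
        (fun i h1 h2 => isZero_HD_restrictD U.ι L i (hz i (by omega) h2)) ψ) _
    · rw [comp_zero]
      exact eq_zero_of_adj adjV (fun ψ => hV _ (isQCohD_restrictD V.ι L hL)
        (fun i h1 h2 => isZero_HD_restrictD V.ι L i (hz i (by omega) h2)) ψ) _
  obtain ⟨g, hg⟩ := Triangle.yoneda_exact₃ _ hT φ h1
  have hg0 : g = 0 := by
    apply (shiftFunctor (DCoh.D Y) (-1 : ℤ)).map_injective
    rw [Functor.map_zero]
    let X₁ := (CxOX.extZeroD (U ⊓ V).ι).obj ((DCoh.restrictD (U ⊓ V).ι).obj A)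
    let e : X₁ ≅ (X₁⟦(1 : ℤ)⟧)⟦(-1 : ℤ)⟧ :=
      (shiftFunctorCompIsoId (DCoh.D Y) (1 : ℤ) (-1 : ℤ) (by norm_num)).symm.app X₁
    have h3 : e.hom ≫ g⟦(-1 : ℤ)⟧' = 0 := eq_zero_of_adj adjW (fun ψ => hW _
      (isQCohD_restrictD (U ⊓ V).ι _ (isQCohD_shift L hL (-1)))
      (fun i h1 h2 => isZero_HD_restrictD (U ⊓ V).ι _ i
        (isZero_HD_shift L (-1) i (i - 1) (by omega) (hz (i - 1) (by omega) (by omega)))) ψ) _
    exact (cancel_epi e.hom).1 (h3.trans comp_zero.symm)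
  rw [hg, hg0]
  exact comp_zero

end Groth.Agent.H5.HomVan.MV
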