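import Groth.Agent.H5.HomVan.MV

/-!
# `HV` and truncations: eventual vanishing of `Hom(P[-i], E)` only depends on a truncation of `E`
-/

set_option autoImplicit false
set_option linter.style.haveILetI false

universe u

open CategoryTheory Category Limits Pretriangulated DerivedCategory AlgebraicGeometry

attribute [local instance] HasDerivedCategory.standard

namespace Groth.Agent.H5.HomVan.Trunc

open Groth.Agent.H5.HomVan.Basic Groth.Agent.H5.HomVan.MV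

variable {X : Scheme.{u}} {P : DCoh.D X} {a₀ b₀ : ℤ}

/-- maps from a shift of `P` -/
lemma shift_hom_eq_zero (hP : HV P a₀ b₀) (M : DCoh.D X) (hM : DCoh.IsQCohD M) (i : ℤ)
    (hz : ∀ k : ℤ, a₀ ≤ k → k ≤ b₀ → IsZero (DCoh.HD M (i + k))) (φ : P⟦-i⟧ ⟶ M) : φ = 0 := by
  apply (shiftFunctor (DCoh.D X) i).map_injective
  rw [Functor.map_zero]
  let e : P ≅ (P⟦-i⟧)⟦i⟧ := (shiftFunctorCompIsoId (DCoh.D X) (-i) i (by omega)).symm.app P
  have h := hP (M⟦i⟧) (isQCohD_shift M hM i)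
    (fun k h1 h2 => isZero_HD_shift M i k (i + k) rfl (hz k h1 h2)) (e.hom ≫ φ⟦i⟧')
  exact (cancel_epi e.hom).1 (h.trans comp_zero.symm)

/-- eventual vanishing of `Hom(P[-i], E)` for `i ≫ 0` only depends on `τ_{≥ n} E` -/
theorem truncGE_iff (hP : HV P a₀ b₀) (E : DCoh.D X) (hE : DCoh.IsQCohD E) (n : ℤ) :
    (∃ N : ℤ, ∀ i : ℤ, N ≤ i → ∀ φ : P⟦-i⟧ ⟶ E, φ = 0) ↔
    (∃ N : ℤ, ∀ i : ℤ, N ≤ i → ∀ φ : P⟦-i⟧ ⟶
      ((TStructure.t : Triangulated.TStructure (DCoh.D X)).truncGE n).obj E, φ = 0) := by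
  have hT := TStructure.t.triangleLTGE_distinguished n E
  let M := (TStructure.t.truncLT n).obj E
  have hM : DCoh.IsQCohD M := isQCohD_truncLT E hE n
  haveI hLE : M.IsLE (n - 1) :=
    (inferInstance : TStructure.t.IsLE ((TStructure.t.truncLT n).obj E) (n - 1))
  have key1 : ∀ i : ℤ, n - a₀ ≤ i → ∀ φ : P⟦-i⟧ ⟶ M, φ = 0 := fun i hi φ =>
    shift_hom_eq_zero hP M hM i (fun k h1 _ => isZero_of_isLE M (n - 1) (i + k) (by omega)) φ
  have key2 : ∀ i : ℤ, n - a₀ ≤ i → ∀ φ : P⟦-i⟧ ⟶ M⟦(1 : ℤ)⟧, φ = 0 := fun i hi φ =>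
    shift_hom_eq_zero hP _ (isQCohD_shift M hM 1) i (fun k h1 _ =>
      isZero_HD_shift M 1 (i + k) (1 + (i + k)) rfl
        (isZero_of_isLE M (n - 1) (1 + (i + k)) (by omega))) φ
  constructor
  · rintro ⟨N, hN⟩
    refine ⟨max N (n - a₀), fun i hi φ => ?_⟩
    have h1 : φ ≫ ((TStructure.t.triangleLTGE n).obj E).mor₃ = 0 :=
      key2 i ((le_max_right _ _).trans hi) _
    obtain ⟨g, hg⟩ := Triangle.coyoneda_exact₃ _ hT φ h1
    rw [hg, hN i ((le_max_left _ _).trans hi) g]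
    exact zero_comp
  · rintro ⟨N, hN⟩
    refine ⟨max N (n - a₀), fun i hi φ => ?_⟩
    have h1 : φ ≫ ((TStructure.t.triangleLTGE n).obj E).mor₂ = 0 :=
      hN i ((le_max_left _ _).trans hi) _
    obtain ⟨g, hg⟩ := Triangle.coyoneda_exact₂ _ hT φ h1
    rw [hg, key1 i ((le_max_right _ _).trans hi) g]
    exact zero_comp

/-- eventual vanishing of `Hom(P[-i], E)` for `i ≪ 0` only depends on `τ_{< n} E` -/
theorem truncLT_iff (hP : HV P a₀ b₀) (E : DCoh.D X) (hE : DCoh.IsQCohD E) (n : ℤ) :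
    (∃ N : ℤ, ∀ i : ℤ, i ≤ N → ∀ φ : P⟦-i⟧ ⟶ E, φ = 0) ↔
    (∃ N : ℤ, ∀ i : ℤ, i ≤ N → ∀ φ : P⟦-i⟧ ⟶
      ((TStructure.t : Triangulated.TStructure (DCoh.D X)).truncLT n).obj E, φ = 0) := by
  have hT := TStructure.t.triangleLTGE_distinguished n E
  have hT' := inv_rot_of_distTriang _ hT
  let M := (TStructure.t.truncGE n).obj E
  have hM : DCoh.IsQCohD M := isQCohD_truncGE E hE n
  haveI hGE : M.IsGE n :=
    (inferInstance : TStructure.t.IsGE ((TStructure.t.truncGE n).obj E) n)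
  have key1 : ∀ i : ℤ, i ≤ n - 1 - b₀ → ∀ φ : P⟦-i⟧ ⟶ M, φ = 0 := fun i hi φ =>
    shift_hom_eq_zero hP M hM i (fun k _ h2 => isZero_of_isGE M n (i + k) (by omega)) φ
  have key2 : ∀ i : ℤ, i ≤ n - 1 - b₀ → ∀ φ : P⟦-i⟧ ⟶ M⟦(-1 : ℤ)⟧, φ = 0 := fun i hi φ =>
    shift_hom_eq_zero hP _ (isQCohD_shift M hM (-1)) i (fun k _ h2 =>
      isZero_HD_shift M (-1) (i + k) (-1 + (i + k)) rfl
        (isZero_of_isGE M n (-1 + (i + k)) (by omega))) φ
  constructor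
  · rintro ⟨N, hN⟩
    refine ⟨min N (n - 1 - b₀), fun i hi φ => ?_⟩
    have h1 : φ ≫ ((TStructure.t.triangleLTGE n).obj E).invRotate.mor₂ = 0 :=
      hN i (hi.trans (min_le_left _ _)) _
    obtain ⟨g, hg⟩ := Triangle.coyoneda_exact₂ _ hT' φ h1
    rw [hg, key2 i (hi.trans (min_le_right _ _)) g]
    exact zero_comp
  · rintro ⟨N, hN⟩
    refine ⟨min N (n - 1 - b₀), fun i hi φ => ?_⟩
    have h1 : φ ≫ ((TStructure.t.triangleLTGE n).obj E).mor₂ = 0 :=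
      key1 i (hi.trans (min_le_right _ _)) _
    obtain ⟨g, hg⟩ := Triangle.coyoneda_exact₂ _ hT φ h1
    rw [hg, hN i (hi.trans (min_le_left _ _)) g]
    exact zero_comp

end Groth.Agent.H5.HomVan.Trunc
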